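import Mathlib.CategoryTheory.Triangulated.TStructure.Heart
import Mathlib.CategoryTheory.Triangulated.TStructure.TruncLEGT
import Mathlib.CategoryTheory.Triangulated.TStructure.AbelianSubcategory
import Mathlib.CategoryTheory.Preadditive.AdditiveFunctor
import Mathlib.CategoryTheory.Limits.Constructions.FiniteProductsOfBinaryProducts

/-!
# The heart of a t-structure: conditions for it to be abelian
-/

set_option autoImplicit false
set_option backward.isDefEq.respectTransparency false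
set_option backward.defeqAttrib.useBackward true

universe v u v' u'

open CategoryTheory CategoryTheory.Limits CategoryTheory.Pretriangulated CategoryTheory.Triangulated
  ZeroObject

namespace Groth.Agent.PervHeart

variable {C : Type u} [Category.{v} C] [Preadditive C] [HasZeroObject C] [HasShift C ℤ]
  [∀ n : ℤ, (shiftFunctor C n).Additive] [Pretriangulated C] (t : TStructure C)
  {H : Type u'} [Category.{v'} H] [Preadditive H] [t.Heart H]

omit [t.Heart H] in
lemma heart_zero : t.heart (0 : C) := by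
  rw [t.mem_heart_iff]; exact ⟨inferInstance, inferInstance⟩

lemma exists_iso {X : C} (hX : t.IsLE X 0) (hX' : t.IsGE X 0) :
    ∃ A : H, Nonempty (t.ιHeart.obj A ≅ X) := by
  have : t.heart X := (t.mem_heart_iff X).2 ⟨hX, hX'⟩
  rw [← t.essImage_ιHeart H] at this
  exact this

lemma hom_shift_eq_zero ⦃X Y : H⦄ ⦃n : ℤ⦄ (f : t.ιHeart.obj X ⟶ (t.ιHeart.obj Y)⟦n⟧) (hn : n < 0) :
    f = 0 := by
  have : t.IsGE ((t.ιHeart.obj Y)⟦n⟧) (-n) := t.isGE_shift _ 0 n (-n) (by lia)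
  exact t.zero_of_isLE_of_isGE f 0 (-n) (by lia) inferInstance this

lemma admissible [IsTriangulated C] :
    AbelianSubcategory.admissibleMorphism (t.ιHeart (H := H)) = ⊤ := by
  refine top_unique fun X₁ X₂ f₁ _ X₃ f₂ f₃ hT => ?_
  have hX₁ : t.IsLE ((t.ιHeart.obj X₁)⟦(1 : ℤ)⟧) 0 :=
    have := t.isLE_shift (t.ιHeart.obj X₁) 0 1 (-1) (by lia)
    t.isLE_of_le _ (-1) 0
  have hX₁' : t.IsGE ((t.ιHeart.obj X₁)⟦(1 : ℤ)⟧) (-1) := t.isGE_shift _ 0 1 (-1) (by lia)
  have hle : t.IsLE X₃ 0 := t.isLE₂ _ (rot_of_distTriang _ hT) 0 (inferInstanceAs (t.IsLE (t.ιHeart.obj X₂) 0)) hX₁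
  have hge : t.IsGE X₃ (-1) := t.isGE₂ _ (rot_of_distTriang _ hT) (-1)
    (t.isGE_of_ge (t.ιHeart.obj X₂) (-1) 0) hX₁'
  have h1 : t.IsLE ((t.truncLT 0).obj X₃) (-1) := t.isLE_truncLT_obj X₃ 0 (-1)
  have h1' : t.IsGE ((t.truncLT 0).obj X₃) (-1) := inferInstance
  obtain ⟨K, ⟨eK⟩⟩ := exists_iso t (H := H) (X := ((t.truncLT 0).obj X₃)⟦(-1 : ℤ)⟧)
    (t.isLE_shift _ (-1) (-1) 0 (by lia)) (t.isGE_shift _ (-1) (-1) 0 (by lia))
  obtain ⟨Q, ⟨eQ⟩⟩ := exists_iso t (H := H) (X := (t.truncGE 0).obj X₃) inferInstance inferInstance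
  let e₁ : (t.ιHeart.obj K)⟦(1 : ℤ)⟧ ≅ (t.truncLT 0).obj X₃ :=
    (shiftFunctor C (1 : ℤ)).mapIso eK ≪≫ (shiftEquiv C (1 : ℤ)).counitIso.app _
  refine ⟨K, Q, e₁.hom ≫ (t.truncLTι 0).app X₃, (t.truncGEπ 0).app X₃ ≫ eQ.inv,
    eQ.hom ≫ (t.truncGEδLT 0).app X₃ ≫ e₁.inv⟦(1 : ℤ)⟧', ?_⟩
  refine isomorphic_distinguished _ (t.triangleLTGE_distinguished 0 X₃) _ ?_
  refine Triangle.isoMk _ _ e₁ (Iso.refl _) eQ ?_ ?_ ?_
  · simp
  · simp
  · simp [← Functor.map_comp]

lemma hasFiniteProducts (t : TStructure C) [t.Heart H] : HasFiniteProducts H := by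
  obtain ⟨Z, ⟨eZ⟩⟩ := exists_iso t (H := H) (X := (0 : C)) inferInstance inferInstance
  haveI : HasZeroObject H := ⟨⟨Z, by
    rw [IsZero.iff_id_eq_zero]
    exact t.ιHeart.map_injective ((isZero_zero C).of_iso eZ |>.eq_of_src _ _)⟩⟩
  haveI : HasBinaryBiproducts H := ⟨fun X Y => by
    have hT := binaryBiproductTriangle_distinguished (t.ιHeart.obj X) (t.ιHeart.obj Y)
    obtain ⟨P, ⟨e⟩⟩ := exists_iso t (H := H) (X := t.ιHeart.obj X ⊞ t.ιHeart.obj Y)
      (t.isLE₂ _ hT 0 (inferInstanceAs (t.IsLE (t.ιHeart.obj X) 0)) (inferInstanceAs (t.IsLE (t.ιHeart.obj Y) 0)))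
      (t.isGE₂ _ hT 0 (inferInstanceAs (t.IsGE (t.ιHeart.obj X) 0)) (inferInstanceAs (t.IsGE (t.ιHeart.obj Y) 0)))
    let b : BinaryBicone X Y :=
      { pt := P
        fst := t.ιHeart.preimage (e.hom ≫ biprod.fst)
        snd := t.ιHeart.preimage (e.hom ≫ biprod.snd)
        inl := t.ιHeart.preimage (biprod.inl ≫ e.inv)
        inr := t.ιHeart.preimage (biprod.inr ≫ e.inv)
        inl_fst := t.ιHeart.map_injective (by simp)
        inl_snd := t.ιHeart.map_injective (by simp)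
        inr_fst := t.ιHeart.map_injective (by simp)
        inr_snd := t.ιHeart.map_injective (by simp) }
    refine hasBinaryBiproduct_of_total b (t.ιHeart.map_injective ?_)
    simp only [b, Functor.map_add, Functor.map_comp, Functor.map_preimage, CategoryTheory.Functor.map_id,
      Category.assoc]
    rw [← Preadditive.comp_add, ← Category.assoc biprod.fst, ← Category.assoc biprod.snd,
      ← Preadditive.add_comp, biprod.total, Category.id_comp, e.hom_inv_id]⟩
  exact hasFiniteProducts_of_has_binary_and_terminal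

end Groth.Agent.PervHeart
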