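import Groth.Agent.PervHeart.Basic
import Mathlib.CategoryTheory.Triangulated.HomologicalFunctor
import Mathlib.CategoryTheory.Triangulated.Triangulated
import Mathlib.CategoryTheory.Abelian.Exact

/-!
# The degree zero cohomology functor of a t-structure is homological
-/

set_option autoImplicit false
set_option backward.isDefEq.respectTransparency false
set_option backward.defeqAttrib.useBackward true

universe v u v' u'

open CategoryTheory CategoryTheory.Limits CategoryTheory.Pretriangulated CategoryTheory.Triangulated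

namespace Groth.Agent.PervHeart

variable {C : Type u} [Category.{v} C] [Preadditive C] [HasZeroObject C] [HasShift C ℤ]
  [∀ n : ℤ, (shiftFunctor C n).Additive] [Pretriangulated C] [IsTriangulated C] {t : TStructure C}
  {H : Type u'} [Category.{v'} H] [Abelian H] [t.Heart H] {H0 : C ⥤ H}
  (e : H0 ⋙ t.ιHeart ≅ t.truncGE 0 ⋙ t.truncLE 0)

include e

lemma additive_H0 : H0.Additive := by
  haveI : (t.truncGE 0 ⋙ t.truncLE 0).Additive := inferInstance
  haveI := Functor.additive_of_iso e.symm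
  exact Functor.additive_of_comp_faithful H0 t.ιHeart

/-- `W ⟶ ι (H0 W)` for `W ≤ 0`. -/
noncomputable def qmap (W : C) [t.IsLE W 0] : W ⟶ t.ιHeart.obj (H0.obj W) :=
  (t.truncGEπ 0).app W ≫ inv ((t.truncLEι 0).app ((t.truncGE 0).obj W)) ≫ e.inv.app W

/-- `ι (H0 W) ⟶ W` for `W ≥ 0`. -/
noncomputable def pmap (W : C) [t.IsGE W 0] : t.ιHeart.obj (H0.obj W) ⟶ W :=
  e.hom.app W ≫ inv ((t.truncLE 0).map ((t.truncGEπ 0).app W)) ≫ (t.truncLEι 0).app W

lemma qmap_naturality {V W : C} [t.IsLE V 0] [t.IsLE W 0] (f : V ⟶ W) :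
    f ≫ qmap e W = qmap e V ≫ t.ιHeart.map (H0.map f) := by
  have h1 := e.inv.naturality f
  dsimp at h1
  have h2 := (t.truncLEι 0).naturality ((t.truncGE 0).map f)
  dsimp at h2
  have h3 := (t.truncGEπ 0).naturality f
  dsimp at h3
  simp only [qmap, Category.assoc]
  rw [← h1, reassoc_of% h3]
  congr 1
  rw [IsIso.eq_inv_comp, ← reassoc_of% h2, IsIso.hom_inv_id_assoc]

lemma pmap_naturality {V W : C} [t.IsGE V 0] [t.IsGE W 0] (f : V ⟶ W) :
    t.ιHeart.map (H0.map f) ≫ pmap e W = pmap e V ≫ f := by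
  have h1 := e.hom.naturality f
  dsimp at h1
  have h2 := (t.truncLE 0).congr_map ((t.truncGEπ 0).naturality f)
  dsimp at h2
  simp only [Functor.map_comp] at h2
  have h3 := (t.truncLEι 0).naturality f
  dsimp at h3
  simp only [pmap, Category.assoc]
  rw [reassoc_of% h1, ← h3]
  congr 1
  rw [IsIso.eq_inv_comp, ← reassoc_of% h2, IsIso.hom_inv_id_assoc]

lemma qmap_ext {W : C} [t.IsLE W 0] {A : H} {a b : H0.obj W ⟶ A}
    (h : qmap e W ≫ t.ιHeart.map a = qmap e W ≫ t.ιHeart.map b) : a = b := by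
  apply t.ιHeart.map_injective
  simp only [qmap, Category.assoc] at h
  have h' := t.from_truncGE_obj_ext h
  rwa [cancel_epi, cancel_epi] at h'

lemma qmap_desc {W : C} [t.IsLE W 0] {A : H} (g : W ⟶ t.ιHeart.obj A) :
    ∃ a : H0.obj W ⟶ A, qmap e W ≫ t.ιHeart.map a = g := by
  refine ⟨t.ιHeart.preimage (e.hom.app W ≫ (t.truncLEι 0).app _ ≫ t.descTruncGE g 0), ?_⟩
  simp [qmap]

lemma pmap_ext {W : C} [t.IsGE W 0] {A : H} {a b : A ⟶ H0.obj W}
    (h : t.ιHeart.map a ≫ pmap e W = t.ιHeart.map b ≫ pmap e W) : a = b := by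
  apply t.ιHeart.map_injective
  simp only [pmap, ← Category.assoc] at h
  have h' := t.to_truncLE_obj_ext h
  rwa [cancel_mono, cancel_mono] at h'

lemma pmap_lift {W : C} [t.IsGE W 0] {A : H} (g : t.ιHeart.obj A ⟶ W) :
    ∃ a : A ⟶ H0.obj W, t.ιHeart.map a ≫ pmap e W = g := by
  refine ⟨t.ιHeart.preimage (t.liftTruncLE g 0 ≫ (t.truncLE 0).map ((t.truncGEπ 0).app W) ≫ e.inv.app W), ?_⟩
  simp [pmap]

/-- Right exactness on the aisle. -/
lemma rightExact {X Y Z : C} {f : X ⟶ Y} {g : Y ⟶ Z} {h : Z ⟶ X⟦(1 : ℤ)⟧}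
    (hT : Triangle.mk f g h ∈ distTriang C) [t.IsLE X 0] [t.IsLE Y 0] :
    ∃ w : H0.map f ≫ H0.map g = 0, (ShortComplex.mk _ _ w).Exact ∧ Epi (H0.map g) := by
  have hX1 : t.IsLE (X⟦(1 : ℤ)⟧) (-1) := t.isLE_shift X 0 1 (-1) (by lia)
  haveI : t.IsLE Z 0 := t.isLE₂ _ (rot_of_distTriang _ hT) 0 (inferInstanceAs (t.IsLE Y 0))
    (t.isLE_of_le (X⟦(1 : ℤ)⟧) (-1) 0)
  haveI := additive_H0 e
  have w : H0.map f ≫ H0.map g = 0 := by
    have hfg : f ≫ g = 0 := comp_distTriang_mor_zero₁₂ _ hT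
    rw [← H0.map_comp, hfg, H0.map_zero]
  haveI : t.IsLE (Triangle.mk f g h).obj₃ 0 := inferInstanceAs (t.IsLE Z 0)
  haveI : t.IsLE (Triangle.mk f g h).obj₂ 0 := inferInstanceAs (t.IsLE Y 0)
  have hepi : Epi (H0.map g) := Preadditive.epi_of_cancel_zero _ fun {A} a ha => by
    apply qmap_ext e
    rw [Functor.map_zero, comp_zero]
    have z : g ≫ qmap e Z ≫ t.ιHeart.map a = 0 := by
      rw [← Category.assoc, qmap_naturality e g, Category.assoc, ← Functor.map_comp, ha,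
        Functor.map_zero, comp_zero]
    obtain ⟨m, hm⟩ : ∃ m : X⟦(1 : ℤ)⟧ ⟶ t.ιHeart.obj A, qmap e Z ≫ t.ιHeart.map a = h ≫ m :=
      Triangle.yoneda_exact₃ _ hT _ z
    rw [hm, t.zero_of_isLE_of_isGE m (-1) 0 (by lia) hX1 inferInstance, comp_zero]
  refine ⟨w, ShortComplex.exact_of_g_is_cokernel _ ?_, hepi⟩
  have hd : ∀ {A : H} (k : H0.obj Y ⟶ A), H0.map f ≫ k = 0 → ∃ l, H0.map g ≫ l = k := fun {A} k hk => by
    obtain ⟨m, hm⟩ := Triangle.yoneda_exact₂ _ hT (qmap e Y ≫ t.ιHeart.map k) (by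
      show f ≫ _ = 0
      rw [← Category.assoc, qmap_naturality e f, Category.assoc, ← Functor.map_comp, hk,
        Functor.map_zero, comp_zero])
    obtain ⟨l, hl⟩ : ∃ l, qmap e Z ≫ t.ιHeart.map l = m := qmap_desc e (W := Z) m
    refine ⟨l, qmap_ext e ?_⟩
    rw [Functor.map_comp, ← Category.assoc, ← qmap_naturality e g, Category.assoc, hl]
    exact hm.symm
  exact CokernelCofork.IsColimit.ofπ _ _ (fun k hk => (hd k hk).choose)
    (fun k hk => (hd k hk).choose_spec) (fun k hk m hm => by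
      haveI := hepi
      exact (cancel_epi (H0.map g)).1 (hm.trans (hd k hk).choose_spec.symm))

/-- Left exactness on the coaisle. -/
lemma leftExact {X Y Z : C} {f : X ⟶ Y} {g : Y ⟶ Z} {h : Z ⟶ X⟦(1 : ℤ)⟧}
    (hT : Triangle.mk f g h ∈ distTriang C) [t.IsGE Y 0] [t.IsGE Z 0] :
    ∃ w : H0.map f ≫ H0.map g = 0, (ShortComplex.mk _ _ w).Exact ∧ Mono (H0.map f) := by
  have hT' := inv_rot_of_distTriang _ hT
  have hZ1 : t.IsGE (Z⟦(-1 : ℤ)⟧) 1 := t.isGE_shift Z 0 (-1) 1 (by lia)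
  haveI : t.IsGE X 0 := t.isGE₂ _ hT' 0 (t.isGE_of_ge (Z⟦(-1 : ℤ)⟧) 0 1) (inferInstanceAs (t.IsGE Y 0))
  haveI := additive_H0 e
  have w : H0.map f ≫ H0.map g = 0 := by
    have hfg : f ≫ g = 0 := comp_distTriang_mor_zero₁₂ _ hT
    rw [← H0.map_comp, hfg, H0.map_zero]
  haveI : t.IsGE (Triangle.mk f g h).obj₁ 0 := inferInstanceAs (t.IsGE X 0)
  haveI : t.IsGE (Triangle.mk f g h).obj₂ 0 := inferInstanceAs (t.IsGE Y 0)
  have hmono : Mono (H0.map f) := Preadditive.mono_of_cancel_zero _ fun {A} a ha => by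
    apply pmap_ext e
    rw [Functor.map_zero, zero_comp]
    have z : (t.ιHeart.map a ≫ pmap e X) ≫ f = 0 := by
      rw [Category.assoc, ← pmap_naturality e f, ← Category.assoc, ← Functor.map_comp, ha,
        Functor.map_zero, zero_comp]
    obtain ⟨m, hm⟩ := Triangle.coyoneda_exact₂ _ hT' (t.ιHeart.map a ≫ pmap e X) z
    rw [hm, t.zero_of_isLE_of_isGE m 0 1 (by lia) inferInstance hZ1, zero_comp]
  refine ⟨w, ShortComplex.exact_of_f_is_kernel _ ?_, hmono⟩
  have hd : ∀ {A : H} (k : A ⟶ H0.obj Y), k ≫ H0.map g = 0 → ∃ l, l ≫ H0.map f = k := fun {A} k hk => by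
    obtain ⟨m, hm⟩ := Triangle.coyoneda_exact₂ _ hT (t.ιHeart.map k ≫ pmap e Y) (by
      show _ ≫ g = 0
      rw [Category.assoc, ← pmap_naturality e g, ← Category.assoc, ← Functor.map_comp, hk,
        Functor.map_zero, zero_comp])
    obtain ⟨l, hl⟩ : ∃ l, t.ιHeart.map l ≫ pmap e X = m := pmap_lift e (W := X) m
    refine ⟨l, pmap_ext e ?_⟩
    rw [Functor.map_comp, Category.assoc, pmap_naturality e f, ← Category.assoc, hl]
    exact hm.symm
  exact KernelFork.IsLimit.ofι _ _ (fun k hk => (hd k hk).choose)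
    (fun k hk => (hd k hk).choose_spec) (fun k hk m hm => by
      haveI := hmono
      exact (cancel_mono (H0.map f)).1 (hm.trans (hd k hk).choose_spec.symm))

lemma isIso_H0_map {X Y : C} (f : X ⟶ Y) [IsIso ((t.truncLE 0).map f)] : IsIso (H0.map f) := by
  have h1 : IsIso ((t.truncGELE 0 0).map f) := by dsimp; infer_instance
  have h2 : IsIso ((t.truncLEGE 0 0).map f) :=
    (NatIso.isIso_map_iff (t.truncGELEIsoLEGE 0 0) f).1 h1
  have h3 : IsIso (t.ιHeart.map (H0.map f)) := (NatIso.isIso_map_iff e f).2 h2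
  exact isIso_of_reflects_iso (H0.map f) t.ιHeart

/-- Right exactness when only the first object is in the aisle. -/
lemma exact_of_isLE {X Y Z : C} {f : X ⟶ Y} {g : Y ⟶ Z} {h : Z ⟶ X⟦(1 : ℤ)⟧}
    (hT : Triangle.mk f g h ∈ distTriang C) [t.IsLE X 0] :
    ∃ w : H0.map f ≫ H0.map g = 0, (ShortComplex.mk _ _ w).Exact := by
  let u : X ⟶ (t.truncLE 0).obj Y := t.liftTruncLE f 0
  have hu : u ≫ (t.truncLEι 0).app Y = f := t.liftTruncLE_ι f 0
  obtain ⟨Z', g', h', hT'⟩ := distinguished_cocone_triangle u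
  let O := someOctahedron hu hT' (t.triangleLEGT_distinguished 0 Y) hT
  haveI : IsIso ((t.truncLE 0).map O.m₁) :=
    t.isIso₁_truncLE_map_of_isGE _ O.mem 0 1 rfl (t.isGE_truncGT_obj Y 0 1)
  haveI : IsIso (H0.map O.m₁) := isIso_H0_map e O.m₁
  haveI : IsIso (H0.map ((t.truncLEι 0).app Y)) := isIso_H0_map e _
  obtain ⟨w', hex, -⟩ := rightExact e hT'
  haveI := additive_H0 e
  have w : H0.map f ≫ H0.map g = 0 := by
    have hfg : f ≫ g = 0 := comp_distTriang_mor_zero₁₂ _ hT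
    rw [← H0.map_comp, hfg, H0.map_zero]
  refine ⟨w, (ShortComplex.exact_iff_of_iso (S₁ := ShortComplex.mk _ _ w') (S₂ := ShortComplex.mk _ _ w)
    (ShortComplex.isoMk (Iso.refl (H0.obj X))
      (asIso (H0.map ((t.truncLEι 0).app Y))) (asIso (H0.map O.m₁)) ?_ ?_)).1 hex⟩
  · simp [← H0.map_comp, hu]
  · have := O.comm₁
    dsimp at this ⊢
    rw [← H0.map_comp, ← H0.map_comp, this]

lemma isIso_H0_map' {X Y : C} (f : X ⟶ Y) [IsIso ((t.truncGE 0).map f)] : IsIso (H0.map f) := by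
  have h2 : IsIso ((t.truncLEGE 0 0).map f) := by dsimp; infer_instance
  have h3 : IsIso (t.ιHeart.map (H0.map f)) := (NatIso.isIso_map_iff e f).2 h2
  exact isIso_of_reflects_iso (H0.map f) t.ιHeart

/-- If the third object is in the coaisle, the second morphism of the rotated sequence is mono. -/
lemma mono_of_isGE {W Z P : C} {m : W ⟶ Z} {g : Z ⟶ P} {h : P ⟶ W⟦(1 : ℤ)⟧}
    (hT : Triangle.mk m g h ∈ distTriang C) [t.IsGE P 0] : Mono (H0.map m) := by
  obtain ⟨Z', g', h', hT'⟩ := distinguished_cocone_triangle ((t.truncLTι 0).app W ≫ m)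
  let O := someOctahedron rfl (t.triangleLTGE_distinguished 0 W) hT hT'
  haveI : t.IsGE Z' 0 := t.isGE₂ _ O.mem 0 (inferInstanceAs (t.IsGE ((t.truncGE 0).obj W) 0))
    (inferInstanceAs (t.IsGE P 0))
  haveI : IsIso ((t.truncGE 0).map g') := t.isIso₂_truncGE_map_of_isLE _ hT' (-1) 0 rfl
    (t.isLE_truncLT_obj W 0 (-1))
  haveI : IsIso (H0.map g') := isIso_H0_map' e g'
  haveI : IsIso (H0.map ((t.truncGEπ 0).app W)) := isIso_H0_map' e _
  obtain ⟨-, -, hm⟩ := leftExact e O.mem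
  haveI := hm
  have hc : H0.map ((t.truncGEπ 0).app W) ≫ H0.map O.m₁ = H0.map m ≫ H0.map g' := by
    rw [← H0.map_comp, ← H0.map_comp]; exact congrArg H0.map O.comm₁
  haveI : Mono (H0.map m ≫ H0.map g') := hc ▸ inferInstance
  exact mono_of_mono (H0.map m) (H0.map g')

/-- `H0` is homological. -/
lemma isHomological : H0.IsHomological := by
  haveI := additive_H0 e
  refine Functor.IsHomological.mk' _ fun T hT => ⟨T, Iso.refl _, ?_⟩
  obtain ⟨W, g', h', hT'⟩ := distinguished_cocone_triangle ((t.truncLE 0).map T.mor₁ ≫ (t.truncLEι 0).app T.obj₂)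
  have hu : (t.truncLEι 0).app T.obj₁ ≫ T.mor₁ = (t.truncLE 0).map T.mor₁ ≫ (t.truncLEι 0).app T.obj₂ :=
    ((t.truncLEι 0).naturality T.mor₁).symm
  let O := someOctahedron hu (t.triangleLEGT_distinguished 0 T.obj₁) hT hT'
  haveI : t.IsGE (((t.truncGT 0).obj T.obj₁)⟦(1 : ℤ)⟧) 0 :=
    have := t.isGE_truncGT_obj T.obj₁ 0 1
    t.isGE_shift _ 1 1 0 (by lia)
  haveI : Mono (H0.map O.m₃) :=
    mono_of_isGE e (P := ((t.truncGT 0).obj T.obj₁)⟦(1 : ℤ)⟧) (rot_of_distTriang _ O.mem)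
  obtain ⟨w, hex⟩ := exact_of_isLE e hT'
  haveI : IsIso (H0.map ((t.truncLEι 0).app T.obj₁)) := isIso_H0_map e _
  let φ : ShortComplex.mk _ _ w ⟶ (shortComplexOfDistTriangle T hT).map H0 :=
    { τ₁ := H0.map ((t.truncLEι 0).app T.obj₁)
      τ₂ := 𝟙 _
      τ₃ := H0.map O.m₃
      comm₁₂ := by
        show H0.map ((t.truncLEι 0).app T.obj₁) ≫ H0.map T.mor₁ = H0.map _ ≫ 𝟙 (H0.obj T.obj₂)
        rw [Category.comp_id, ← H0.map_comp]
        exact congrArg H0.map hu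
      comm₂₃ := by
        show 𝟙 (H0.obj T.obj₂) ≫ H0.map T.mor₂ = H0.map g' ≫ H0.map O.m₃
        rw [← H0.map_comp, O.comm₃, Category.id_comp] }
  haveI : Epi φ.τ₁ := inferInstanceAs (Epi (H0.map ((t.truncLEι 0).app T.obj₁)))
  haveI : IsIso φ.τ₂ := inferInstanceAs (IsIso (𝟙 _))
  haveI : Mono φ.τ₃ := inferInstanceAs (Mono (H0.map O.m₃))
  exact (ShortComplex.exact_iff_of_epi_of_isIso_of_mono φ).1 hex

end Groth.Agent.PervHeart
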